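import Groth.Agent.L15.ExtSupp.HomZ
import Groth.Agent.L22.ExtSh.Coherence
import Groth.Agent.L29.Sib.InjSub
import Groth.Agent.L16.HomSh.Coherent
import Groth.Agent.L16.QcqsPush
import Groth.Agent.L29.DCoh.QCohOps
import Groth.Agent.L28.LocCoh.Shift
import Groth.Agent.L00.AlgQCoh
import Groth.Agent.L10.SiteRightDerived

/-!
# Ext sheaves with supports of quasi-coherent modules are quasi-coherent
-/

set_option autoImplicit false
set_option backward.isDefEq.respectTransparency false
set_option linter.style.haveILetI false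
set_option linter.unusedSectionVars false
universe u
attribute [local instance] HasDerivedCategory.standard

open CategoryTheory CategoryTheory.Limits Opposite AlgebraicGeometry TopologicalSpace

noncomputable section

namespace Groth.L16.ExtZSh

variable {X : Scheme.{u}} [IsLocallyNoetherian X] (U : X.Opens)

theorem restr_eq_zero_iff {M N : X.Modules} (a : M ⟶ N) :
    (ModSite.restr X.sheaf U).map a = 0 ↔ (Scheme.Modules.restrictFunctor U.ι).map a = 0 := by
  constructor
  · intro h
    refine Scheme.Modules.hom_ext _ _ fun W => ?_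
    ext x
    exact Groth.L15.ExtSupp.val_app_eq_zero_of_restr (O := X.sheaf) U a h
      (homOfLE (show U.ι ''ᵁ W ≤ U by
        exact (Scheme.Hom.image_mono U.ι le_top).trans U.ι_image_top.le)) x
  · intro h
    refine Groth.L15.ExtSupp.restr_map_eq_zero (O := X.sheaf) U a fun V g x => ?_
    have hV : U.ι ''ᵁ (U.ι ⁻¹ᵁ V) = V := by
      rw [Scheme.Hom.image_preimage_eq_opensRange_inf, Scheme.Opens.opensRange_ι]
      exact inf_eq_right.2 (leOfHom g)
    let r := M.presheaf.map (homOfLE hV.le).op x
    have h1 : a.app (U.ι ''ᵁ (U.ι ⁻¹ᵁ V)) r = 0 :=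
      congrArg (fun k : (Scheme.Modules.restrictFunctor U.ι).obj M ⟶ (Scheme.Modules.restrictFunctor U.ι).obj N =>
        k.app (U.ι ⁻¹ᵁ V) r) h
    have h2 : N.presheaf.map (homOfLE hV.le).op (a.app V x) = 0 :=
      (ConcreteCategory.congr_hom (a.mapPresheaf.naturality (homOfLE hV.le).op) x).symm.trans h1
    haveI : IsIso (homOfLE hV.le) := ⟨homOfLE hV.ge, Subsingleton.elim _ _, Subsingleton.elim _ _⟩
    exact (ConcreteCategory.bijective_of_isIso (N.presheaf.map (homOfLE hV.le).op)).1
      (h2.trans (map_zero _).symm)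

theorem isQCoh_sectOn (M : X.Modules) [Coh.IsQCoh M] : Coh.IsQCoh ((ModSite.sectOn X.sheaf U).obj M) := by
  haveI : Coh.IsQCoh (M.restrict U.ι) := Scheme.Modules.isQuasicoherent_restrictFunctor U.ι M
  have hp : Coh.IsQCoh ((Scheme.Modules.pushforward U.ι).obj (M.restrict U.ι)) :=
    Groth.L16.QcqsPush.isQCoh_push _ U.ι
  let adj := Scheme.Modules.restrictAdjunction U.ι
  haveI : (Scheme.Modules.pushforward U.ι).Additive :=
    (Scheme.Modules.pullbackPushforwardAdjunction U.ι).right_adjoint_additive
  haveI : (Scheme.Modules.restrictFunctor U.ι).Additive := adj.left_adjoint_additive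
  have crit : ∀ {A : X.Modules} (a : A ⟶ M), a ≫ adj.unit.app M = 0 ↔
      (Scheme.Modules.restrictFunctor U.ι).map a = 0 := fun {A} a => by
    rw [← (adj.homEquiv A _).symm.injective.eq_iff (a := a ≫ adj.unit.app M),
      Adjunction.homEquiv_counit, Adjunction.homEquiv_counit, Functor.map_comp, Category.assoc,
      adj.left_triangle_components, Functor.map_zero, zero_comp]
    constructor
    · intro h; exact (Category.comp_id _).symm.trans h
    · intro h; exact (Category.comp_id _).trans h
  let s := ModSite.restrPushOverAdj X.sheaf U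
  have h1 : kernel.ι (adj.unit.app M) ≫ s.unit.app M = 0 :=
    (Groth.L15.ExtSupp.unit_comp_eq_zero_iff (O := X.sheaf) U _).2
      ((restr_eq_zero_iff U _).2 ((crit _).1 (kernel.condition _)))
  have h2 : (ModSite.sectOnι X.sheaf U).app M ≫ adj.unit.app M = 0 :=
    (crit _).2 ((restr_eq_zero_iff U _).1
      ((Groth.L15.ExtSupp.unit_comp_eq_zero_iff (O := X.sheaf) U _).1 (kernel.condition _)))
  let e : kernel (adj.unit.app M) ≅ (ModSite.sectOn X.sheaf U).obj M :=
    { hom := kernel.lift _ (kernel.ι _) h1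
      inv := kernel.lift _ ((ModSite.sectOnι X.sheaf U).app M) h2
      hom_inv_id := equalizer.hom_ext (by simp [ModSite.sectOnι])
      inv_hom_id := equalizer.hom_ext (by simp [ModSite.sectOnι]) }
  exact Groth.L29.DC.isQCoh_of_iso' e (Groth.L29.DC.isQCoh_kernel' _ (show Coh.IsQCoh M from inferInstance) hp)

variable (F : X.Modules) [ModSite.HasSheafHom (O := X.sheaf) F] [HasInjectiveResolutions (ModSite.Mod X.sheaf)]

/-- The functor being derived. -/
abbrev homZ : ModSite.Mod X.sheaf ⥤ ModSite.Mod X.sheaf :=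
  ModSite.sheafHom (O := X.sheaf) F ⋙ ModSite.sectOn X.sheaf U

theorem isQCoh_homZ (hF : Coh.IsCoh F) (N : X.Modules) [Coh.IsQCoh N] : Coh.IsQCoh ((homZ U F).obj N) := by
  haveI := Groth.L16.HomSh.isQCoh_homMod hF N
  haveI : Coh.IsQCoh ((ModSite.sheafHom (O := X.sheaf) F).obj N) :=
    Groth.L29.DC.isQCoh_of_iso' ((Groth.L22.ExtSh.homModSiteIso F).app N).symm ‹_›
  exact isQCoh_sectOn U _

instance preservesFiniteLimits_sectOn : PreservesFiniteLimits (ModSite.sectOn X.sheaf U) :=
  haveI : (ModSite.sectOn X.sheaf U).IsRightAdjoint := (Groth.L15.ExtSupp.quotSectAdj (O := X.sheaf) U).isRightAdjoint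
  inferInstance

theorem isQCoh_extZSh (hF : Coh.IsCoh F) : ∀ (i : ℕ) (G : X.Modules), Coh.IsQCoh G →
    Coh.IsQCoh ((ModSite.extZSh (O := X.sheaf) U F i).obj G) := by
  haveI : (ModSite.sheafHom (O := X.sheaf) F).IsRightAdjoint := (ModSite.sheafHomAdj (O := X.sheaf) F).isRightAdjoint
  haveI : PreservesFiniteLimits (homZ U F) := inferInstance
  haveI : HasInjectiveResolutions X.Modules := ‹HasInjectiveResolutions (ModSite.Mod X.sheaf)›
  haveI : IsGrothendieckAbelian.{u} X.Modules := Groth.L00.Tensor.grothendieckAbelian_modules X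
  intro i
  induction i using Nat.strong_induction_on with
  | _ i ih =>
  intro G hG
  haveI := hG
  obtain _ | k := i
  · haveI := isQCoh_homZ U F hF G
    exact Groth.L29.DC.isQCoh_of_iso' ((homZ U F).rightDerivedZeroIsoSelf.app G).symm ‹_›
  · obtain ⟨I, φ, hφ, hI, hIi⟩ := Groth.L29.InjSub.exists_mono_injective G
    haveI := hφ
    haveI := hI
    haveI := hIi
    haveI : EnoughInjectives (ModSite.Mod X.sheaf) :=
      (inferInstanceAs (EnoughInjectives X.Modules))
    let S : ShortComplex (ModSite.Mod X.sheaf) := ShortComplex.mk (C := X.Modules) φ (cokernel.π φ) (cokernel.condition φ)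
    have hS : S.ShortExact := { exact := ShortComplex.exact_cokernel φ }
    have hQ : Coh.IsQCoh (cokernel φ) := Groth.L29.DC.isQCoh_cokernel' φ hG hI
    have hz : IsZero (((homZ U F).rightDerived (k + 1)).obj I) :=
      haveI : Injective (C := ModSite.Mod X.sheaf) I := hIi
      (homZ U F).isZero_rightDerived_obj_injective_succ k I
    obtain ⟨e⟩ := Groth.L28.LocCoh.nonempty_cokernel_iso (homZ U F) (T := S) hS k hz
    exact Groth.L29.DC.isQCoh_of_iso' e
      (Groth.L29.DC.isQCoh_cokernel' _ (ih k (by omega) I hI) (ih k (by omega) _ hQ))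

end Groth.L16.ExtZSh
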