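import Groth.Agent.L15.ExtSupp.HomZ
import Groth.Agent.L22.ExtSh.Coherence
import Groth.Agent.L10.SiteRightDerived
import Groth.Prelude.Def_CohB1

/-!
# Ext sheaves with supports, for a first argument supported in the closed set
-/

set_option autoImplicit false
set_option backward.isDefEq.respectTransparency false
set_option linter.style.haveILetI false
universe u

open CategoryTheory CategoryTheory.Limits Opposite MonoidalCategory AlgebraicGeometry

noncomputable section

namespace Groth.L16.ExtZSh

open Groth.L10 Groth.L10.SiteFr Groth.L00.ModSiteTensor Groth.L15.ExtSupp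

section Site

variable {C : Type u} [SmallCategory C] {J : GrothendieckTopology C} {O : Sheaf J CommRingCat.{u}} (U : C)
  [ModSite.HasPushOver O U] (M : ModSite.Mod O) [ModSite.HasSheafHom M]

theorem isIso_sectOnι (hM : ∀ ⦃V : C⦄ (_ : V ⟶ U) (q : ModSite.sect M V), q = 0) (N : ModSite.Mod O) :
    IsIso ((ModSite.sectOnι O U).app ((ModSite.sheafHom M).obj N)) := by
  have h : (ModSite.restr O U).map (𝟙 ((ModSite.sheafHom M).obj N)) = 0 := by
    rw [restr_adjunct_eq_zero_iff U M]
    refine restr_eq_zero_of_shf (P := (preF O).obj ((ModSite.sheafHom M).obj N) ⊗ (preF O).obj M) U _ fun V g x => ?_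
    have hx : x = 0 := by
      induction x using TensorProduct.induction_on with
      | zero => rfl
      | tmul p q =>
        rw [show q = 0 from hM g q]
        exact TensorProduct.tmul_zero _ _
      | add p q hp hq => rw [hp, hq, add_zero]
    rw [hx]
    exact (congrArg _ (map_zero ((Groth.L00.ModSiteTensor.unit _).app (op V)).hom)).trans (map_zero _)
  have hu := (unit_comp_eq_zero_iff U (𝟙 _)).2 h
  rw [Category.id_comp] at hu
  exact ⟨⟨kernel.lift _ (𝟙 _) (by rw [Category.id_comp]; exact hu), equalizer.hom_ext (by simp [ModSite.sectOnι]), by simp [ModSite.sectOnι]⟩⟩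

end Site

variable {X : Scheme.{u}}

/-- A module whose stalks vanish on `U` has no sections below `U`. -/
theorem eq_zero_below (M : X.Modules) (U : X.Opens) (h : ∀ x ∈ (U : Set X), Subsingleton (M.presheaf.stalk x))
    {V : X.Opens} (g : V ⟶ U) (q : Γ(M, V)) : q = 0 := by
  refine TopCat.Presheaf.section_ext ⟨M.presheaf, M.isSheaf⟩ V q 0 fun x hx => ?_
  haveI := h x (leOfHom g hx)
  exact Subsingleton.elim _ _

theorem isCoh_of_support [IsLocallyNoetherian X] (U : X.Opens) (F G : X.Modules) (hF : Coh.IsCoh F)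
    (hG : Coh.IsCoh G) (hsupp : ∀ x ∈ CohB1.support F, x ∉ (U : Set X))
    [ModSite.HasSheafHom (O := X.sheaf) F] [HasInjectiveResolutions (ModSite.Mod X.sheaf)] (i : ℕ) :
    Coh.IsCoh ((ModSite.extZSh (O := X.sheaf) U F i).obj G) := by
  have h0 : ∀ x ∈ (U : Set X), Subsingleton (F.presheaf.stalk x) := fun x hx => by
    by_contra hne
    exact hsupp x hne hx
  haveI : ∀ N, IsIso ((ModSite.sectOnι X.sheaf U).app ((ModSite.sheafHom (O := X.sheaf) F).obj N)) := fun N =>
    isIso_sectOnι (O := X.sheaf) U F (fun V g q => eq_zero_below F U h0 g q) N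
  let e : ModSite.sheafHom (O := X.sheaf) F ⋙ ModSite.sectOn X.sheaf U ≅ ModSite.sheafHom (O := X.sheaf) F :=
    NatIso.ofComponents
      (fun N => asIso ((ModSite.sectOnι X.sheaf U).app ((ModSite.sheafHom (O := X.sheaf) F).obj N)))
      (fun {N N'} g => (ModSite.sectOnι X.sheaf U).naturality _)
  exact Groth.L16.CohSupport.isCoh_of_iso ((Groth.L10.SiteCoh.rightDerivedCongr e i).app G).symm
    (Groth.L22.ExtSh.isCoh_extSh hF hG i)

end Groth.L16.ExtZSh
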